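import Cfsg.Agent.Lib.Unitary.Wall5

/-! # Element orders of `PSU₃(q)` in every characteristic -/

set_option autoImplicit false

namespace Cfsg.Lib.SP3

set_option maxHeartbeats 1000000 in
theorem u3_spec {F : Type*} [Field F] [Fintype F] (p : ℕ) [Fact p.Prime] [CharP F p] (q : ℕ) (hF : Fintype.card F = q ^ 2) :
    (∀ g : PSU 3 F q, orderOf g ∣ q + 1 ∨ orderOf g ∣ p ^ 2 * (q + 1) / Nat.gcd 3 (q + 1) ∨
      orderOf g ∣ (q ^ 2 - 1) / Nat.gcd 3 (q + 1) ∨ orderOf g ∣ (q ^ 2 - q + 1) / Nat.gcd 3 (q + 1)) ∧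
    (q ^ 2 - q + 1) / Nat.gcd 3 (q + 1) ∈ Set.range (orderOf : PSU 3 F q → ℕ) := by
  open Lib.GLC Lib.Unitary Matrix Polynomial Module in
  obtain ⟨σ, hσ⟩ := exists_isBar hF
  have hp' : p.Prime := Fact.out
  have hp3 : 3 ≤ p ^ 2 := by have := hp'.two_le; nlinarith
  obtain ⟨r, hq⟩ : ∃ r, q = r + 2 := Nat.exists_eq_add_of_le' hσ.two_le
  have hco := Nat.coprime_div_gcd_div_gcd (Nat.gcd_pos_of_pos_left (q + 1) three_pos)
  obtain ⟨e, he⟩ := Nat.gcd_dvd_left 3 (q + 1)
  obtain ⟨k, hk⟩ := Nat.gcd_dvd_right 3 (q + 1)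
  have hd := Nat.gcd_pos_of_pos_left (q + 1) three_pos
  generalize Nat.gcd 3 (q + 1) = d at *
  rw [he, hk, Nat.mul_div_cancel_left _ hd, Nat.mul_div_cancel_left _ hd] at hco
  have hl : q ^ 2 - q + 1 = d * (k * r + e) := by
    rw [mul_add, ← he, ← mul_assoc, ← hk, hq, show (r + 2) ^ 2 = r + 2 + (r ^ 2 + 3 * r + 2) by ring,
      Nat.add_sub_cancel_left]; ring
  have hm : q ^ 2 - 1 = d * ((r + 1) * k) := by
    rw [mul_left_comm, ← hk, hq, show (r + 2) ^ 2 = 1 + (r + 1) * (r + 2 + 1) by ring,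
      Nat.add_sub_cancel_left]
  have h3 : q ^ 3 + 1 = (q + 1) * (d * (k * r + e)) := by
    rw [mul_add, ← he, ← mul_assoc d, ← hk, hq]; ring
  have hcF : Nat.card F - 1 = d * ((r + 1) * k) := by rw [hσ.card, hm]
  rw [hl, hm, Nat.mul_div_cancel_left _ hd, Nat.mul_div_cancel_left _ hd,
    show p ^ 2 * (q + 1) / d = k * p ^ 2 by rw [hk, mul_left_comm, Nat.mul_div_cancel_left _ hd, mul_comm]]
  obtain ⟨K, _, _, _, hK, hK'⟩ := hσ.exists_ext three_ne_zero
  have hN : ∀ a : K, Algebra.norm F a = 1 ↔ (a ^ (d * (k * r + e))) ^ (q * (q + 1) + 1) = 1 :=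
    fun a => by
      rw [norm_eq_one_iff, hK', hσ.card, ← pow_mul, ← hl, Nat.div_eq_of_eq_mul_right
        (by rw [hm]; have : 0 < k := by rcases k with _ | k <;> simp_all
            positivity)]
      zify [Nat.one_le_pow _ _ (show 0 < q by omega), Nat.le_self_pow two_ne_zero q]
      ring
  refine ⟨fun g => ?_, ?_⟩
  · rw [← or_assoc, ← or_assoc]
    obtain ⟨g, rfl⟩ := QuotientGroup.mk_surjective g
    have hb := blocks_typ (toLin' g.1.1)
    have hs := hσ.sd_su g
    have hpp := typ_pp (toLin' g.1.1)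
    have hdeg := sum_typ_toLin' g.1.1
    have hdet := hb.det_eq
    have key : ∀ m (c : F), (∀ P ∈ typ (toLin' g.1.1), P ∣ X ^ m - C c) →
        orderOf (g : PSU 3 F q) ∣ m := fun m c h =>
      (hσ.orderOf_psu_dvd_iff (by omega)).2 ⟨c, hb.pow_eq_smul_one_iff.2 h⟩
    rw [LinearMap.det_toLin', g.1.2, finrank_fin_fun] at hdet
    rw [Fintype.card_fin] at hdeg
    by_cases h1 : ∃ P ∈ typ (toLin' g.1.1), dual σ P ≠ P
    · obtain ⟨P, hP, h1⟩ := h1
      have h0 := hs.coeff_ne hP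
      obtain ⟨ν, -, h | ⟨-, e1⟩⟩ := hσ.exists_split hs.2 hP (hpp P hP).monic h0
      · exact absurd h.1 h1
      have h2 := (hpp P hP).natDegree_pos
      rw [e1] at hpp hdeg hdet key
      simp only [Multiset.insert_eq_cons, Multiset.cons_add, Multiset.map_cons, Multiset.sum_cons,
        Multiset.singleton_add, natDegree_dual h0] at hdeg
      obtain ⟨a, rfl⟩ := exists_eq_X_sub_C (hpp P (by simp)).monic (by omega)
      obtain ⟨c, rfl⟩ := exists_eq_singleton (ν := ν) (fun R hR => hpp R (by simp [hR])) (by omega)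
      have ha : a ≠ 0 := by simpa using h0
      rw [dual_X_sub_C ha] at hdet key
      have h4 : (a ^ ((r + 1) * k)) ^ d = 1 := by
        rw [← pow_mul, mul_comm, ← hcF, Nat.card_eq_fintype_card, FiniteField.pow_card_sub_one_eq_one a ha]
      have h5 : a ^ ((r + 1) * k) * σ (a ^ ((r + 1) * k)) = 1 := by
        rw [hσ.norm_eq, hk, pow_mul _ d, h4, one_pow]
      have h6 : (a ^ ((r + 1) * k)) ^ 3 = 1 := by rw [he, pow_mul _ d, h4, one_pow]
      have h7 : c = σ a / a := by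
        have : σ a ≠ 0 := by simpa using ha
        simp at hdet; field_simp at hdet ⊢; linear_combination -hdet
      refine .inl (.inr (key _ (a ^ ((r + 1) * k)) ?_))
      simp only [Multiset.insert_eq_cons, Multiset.cons_add, Multiset.singleton_add,
        Multiset.mem_cons, Multiset.mem_singleton, forall_eq_or_imp, forall_eq, X_sub_C_dvd_iff,
        true_and, h7, inv_pow, div_pow, ← map_pow]
      rw [eq_inv_of_mul_eq_one_right h5]
      have := left_ne_zero_of_mul_eq_one h5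
      exact ⟨inv_inv _, by field_simp; exact h6.symm⟩
    push Not at h1
    have h2 : ∀ φ j, φ.Monic → Irreducible φ → 0 < j → φ ^ j ∈ typ (toLin' g.1.1) →
        Odd φ.natDegree ∧ φ ∣ X ^ (q ^ φ.natDegree + 1) - 1 := fun φ j h3 h4 h5 h6 => by
      have h0 := coeff_zero_ne_of_dvd (dvd_pow_self φ h5.ne') (hs.coeff_ne h6)
      exact hσ.odd_of_dual_eq h3 h4 h0 ((hσ.dual_pow_eq_iff h3 h4 h0 h5).1 (h1 _ h6))
    by_cases h4 : ∀ P ∈ typ (toLin' g.1.1), P.natDegree = 1
    · refine .inl (.inl (.inl (key _ 1 fun P hP => ?_)))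
      obtain ⟨φ, j, h5, h6, h7, rfl⟩ := hpp P hP
      have h8 := h4 _ hP
      rw [natDegree_pow, mul_eq_one] at h8
      simpa [h8.1, h8.2] using (h2 φ j h5 h6 h7 hP).2
    push Not at h4
    obtain ⟨P, hP, h4⟩ := h4
    obtain ⟨φ, j, h5, h6, h7, rfl⟩ := hpp P hP
    obtain ⟨h8, h9⟩ := h2 φ j h5 h6 h7 hP
    obtain ⟨ν, e1⟩ := Multiset.exists_cons_of_mem hP
    rw [e1] at hpp hdeg hdet key hb
    rw [Multiset.map_cons, Multiset.sum_cons, natDegree_pow] at hdeg
    rw [natDegree_pow] at h4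
    have hν : ∀ R ∈ ν, PP R := fun R hR => hpp R (Multiset.mem_cons_of_mem hR)
    obtain h10 | h10 : φ.natDegree = 1 ∨ φ.natDegree = 3 := by
      have := Nat.le_mul_of_pos_left φ.natDegree h7
      obtain ⟨i, hi⟩ := h8; omega
    · obtain ⟨a, rfl⟩ := exists_eq_X_sub_C h5 h10
      rw [h10, pow_one, ← C_1, X_sub_C_dvd_iff] at h9
      rw [h10] at h4 hdeg
      have h11 : (X - C a) ^ j ∣ X ^ (k * p ^ 2) - C ((a ^ k) ^ p ^ 2) :=
        pow_dvd_X_pow_mul p (t := 2) (e := j) ((X_sub_C_dvd_iff (a := a) (m := k)).2 rfl) (by omega)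
      refine .inl (.inl (.inr (key _ ((a ^ k) ^ p ^ 2) fun R hR => ?_)))
      rcases Multiset.mem_cons.1 hR with rfl | hR'
      · exact h11
      obtain rfl : j = 2 := by
        by_contra h
        rw [eq_zero_of_sum_natDegree hν (by omega)] at hR'
        simp at hR'
      obtain ⟨b, rfl⟩ := exists_eq_singleton hν (by omega)
      rw [Multiset.mem_singleton.1 hR', X_sub_C_dvd_iff, pow_mul]
      have h12 : a ^ 2 * b = 1 := by simp [coeff_zero_eq_eval_zero] at hdet; linear_combination -hdet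
      have h13 : (a ^ k) ^ 3 = 1 := by
        rw [← pow_mul, he, ← mul_assoc, mul_comm k, ← hk, pow_mul, h9, one_pow]
      congr 1
      calc b ^ k = (a ^ 2 * b) ^ k * a ^ k := by
            rw [mul_pow, ← pow_mul, mul_comm 2, pow_mul]; linear_combination -b ^ k * h13
        _ = _ := by rw [h12, one_pow, one_mul]
    · rw [h10] at hdeg h9
      obtain rfl : j = 1 := by omega
      obtain rfl := eq_zero_of_sum_natDegree hν (by omega)
      obtain ⟨a, rfl⟩ := exists_minpoly_eq (K := K) h5 h6 (by rw [h10, hK])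
      have h11 := (hN a).1 (by
        rw [← det_eq_norm hb (by simp [hK]), LinearMap.det_toLin', g.1.2])
      rw [← C_1, minpoly_dvd_iff, map_one] at h9
      have h12 : (a ^ (d * (k * r + e))) ^ (q + 1) = 1 := by rw [← pow_mul, mul_comm, ← h3, h9]
      rw [pow_succ, mul_comm q, pow_mul, h12, one_pow, one_mul] at h11
      obtain ⟨c, hc⟩ := (exists_eq_algebraMap_iff (F := F) (a := a ^ (k * r + e))
        (pow_ne_zero _ fun h => by simp [h] at h9)).2 (by
          rw [hcF, ← pow_mul, ← mul_assoc, mul_comm _ d, pow_mul, h11, one_pow])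
      exact .inr (key _ c fun R hR => by
        rw [Multiset.mem_singleton.1 hR, pow_one, minpoly_dvd_iff, hc])
  · obtain ⟨b, hb, hb'⟩ := exists_orderOf_eq (K := K) (m := d * (k * r + e)) (by
      rw [hK', mul_comm 2, pow_mul, ← one_pow 2, Nat.sq_sub_sq, h3]
      exact (dvd_mul_left _ _).mul_right _)
    have h1 : b ^ (d * (k * r + e)) = 1 := hb' ▸ pow_orderOf_eq_one b
    obtain ⟨g, hg⟩ := hσ.exists_psu_dvd_orderOf (n := 3) (by omega) (m := k * r + e)
      (hσ.sd_lmul (a := b) (j := 3) (by decide) (by rw [h3, mul_comm, pow_mul, h1, one_pow])) hK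
      ((hN b).2 (by rw [h1, one_pow])) fun j c h => by
        have h2 := (exists_eq_algebraMap_iff (pow_ne_zero j hb)).1 ⟨c, lmul_pow_eq_smul_one_iff.1 h⟩
        rw [← pow_mul, ← orderOf_dvd_iff_pow_eq_one, hb', hcF, mul_left_comm] at h2
        refine Nat.Coprime.dvd_of_dvd_mul_right (Nat.Coprime.mul_right ?_ ?_)
          (Nat.dvd_of_mul_dvd_mul_left hd h2)
        · refine Nat.Coprime.coprime_dvd_left (Dvd.intro_left d rfl) ?_
          rw [mul_add, ← he, ← mul_assoc, ← hk, show (q + 1) * r + 3 = 1 + (r + 1) * (r + 2) by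
            rw [hq]; ring]
          simp
        · simpa using hco
    exact exists_orderOf_of_dvd hg

end Cfsg.Lib.SP3
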