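import Cfsg.Agent.Lib.SP3.Nu
import Cfsg.Agent.Lib.SP3.U3
import Cfsg.Agent.Lib.Spec.PSL2
import Cfsg.Agent.S2476

/-! # S3665 for `L₂(q)`, `L₃(q)`, `U₃(q)` -/

set_option autoImplicit false

namespace Cfsg.Lib.SP3

open Cfsg.Lib.SPL Cfsg.Lib.Spec
open scoped MatrixGroups

variable {ω : Set ℕ} {N : ℕ}

theorem mod_three {r : ℕ} {Q : ℤ} (hr : r.Prime) (h3 : r ≠ 3) (h : (r : ℤ) ∣ Q ^ 2 + Q + 1) : r % 3 = 1 := by
  have := Fact.mk hr
  have e : (Q : ZMod r) ^ 2 + Q + 1 = 0 := by exact_mod_cast (ZMod.intCast_zmod_eq_zero_iff_dvd _ r).2 h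
  have n : (Q : ZMod r) ≠ 1 := fun n => h3 ((Nat.prime_dvd_prime_iff_eq hr Nat.prime_three).1
    ((ZMod.natCast_eq_zero_iff 3 r).1 (by rw [n] at e; push_cast; linear_combination e)))
  have := Fact.mk Nat.prime_three
  have o : orderOf (Q : ZMod r) = 3 := orderOf_eq_prime (by linear_combination (Q - 1 : ZMod r) * e) n
  have d := ZMod.orderOf_dvd_card_sub_one (a := (Q : ZMod r)) fun z => by simp [z] at e
  rw [o] at d
  have := hr.two_le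
  omega

/-- `q = c ± 1`, `k` the order of the Coxeter torus -/
theorem three_aux {p f q c d k : ℕ} (hp : p.Prime) (hq : q = p ^ (f + 1)) (hd : d = Nat.gcd 3 c)
    (e : c + 1 = q ∧ d * k = q ^ 2 + q + 1 ∨ c = q + 1 ∧ d * k + q = q ^ 2 + 1)
    (hω : ∀ m ∈ ω, m ∣ c ∨ m ∣ p ^ 2 * c / d ∨ m ∣ (q ^ 2 - 1) / d ∨ m ∣ k) :
    (∀ m ∈ ω, m ∣ p ^ 2 * (q ^ 2 - 1) ∨ m ∣ k) ∧ (∀ r, r.Prime → r ∣ k → r % 3 = 1) ∧
      ∀ r, r.Prime → r ∣ k → r ≠ 2 ∧ 2 * r ∉ ω := by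
  have q2 : 2 ≤ q := hq ▸ hp.two_le.trans (Nat.le_self_pow (by omega) p)
  have pq : p ∣ q := hq ▸ dvd_pow_self p (by omega)
  have dc : d ∣ c := hd ▸ Nat.gcd_dvd_right 3 c
  obtain ⟨Q, hc, hQ, hQ2⟩ : ∃ Q : ℤ, (c : ℤ) ∣ Q - 1 ∧ (d * k : ℤ) = Q ^ 2 + Q + 1 ∧ Q ^ 2 = q ^ 2 ∧
      (Q - 1 ∣ c) := by
    rcases e with ⟨e, e'⟩ | ⟨e, e'⟩
    · exact ⟨q, by rw [← e]; simp, by exact_mod_cast e', rfl, by rw [← e]; simp⟩
    · refine ⟨-q, ⟨-1, by rw [e]; push_cast; ring⟩, ?_, by ring, ⟨-1, by rw [e]; push_cast; ring⟩⟩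
      have : (d * k + q : ℤ) = q ^ 2 + 1 := by exact_mod_cast e'
      linarith
  have cq : c ∣ q ^ 2 - 1 := by
    zify [show 1 ≤ q ^ 2 from Nat.one_le_pow _ _ (by omega)]
    exact hc.trans ⟨Q + 1, by rw [← hQ2.1]; ring⟩
  have hA : ∀ m ∈ ω, m ∣ p ^ 2 * (q ^ 2 - 1) ∨ m ∣ k := fun m hm => by
    rcases hω m hm with a | a | a | a
    exacts [.inl ((a.trans cq).mul_left _), .inl ((a.trans (Nat.div_dvd_of_dvd (dc.mul_left _))).trans (mul_dvd_mul_left _ cq)),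
      .inl ((a.trans (Nat.div_dvd_of_dvd (dc.trans cq))).mul_left _), .inr a]
  have kd : ∀ {r : ℕ}, r ∣ k → (r : ℤ) ∣ Q ^ 2 + Q + 1 := fun a => hQ ▸ (Int.natCast_dvd_natCast.2 a).mul_left _
  have k3 : ¬ 3 ∣ k := fun a => by
    obtain ⟨t, ht⟩ := a
    have h1 : Q % 3 = 1 := by
      obtain ⟨s, hs⟩ := kd ⟨t, ht⟩
      obtain ⟨u, rfl | rfl | rfl⟩ : ∃ u, Q = 3 * u ∨ Q = 3 * u + 1 ∨ Q = 3 * u + 2 := ⟨Q / 3, by omega⟩
      all_goals push_cast at hs; ring_nf at hs; omega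
    have h2 : 3 ∣ c := Int.natCast_dvd_natCast.1 (Dvd.dvd.trans (by push_cast; omega) hQ2.2)
    rw [Nat.gcd_eq_left h2] at hd
    obtain ⟨u, rfl⟩ : ∃ u, Q = 3 * u + 1 := ⟨Q / 3, by omega⟩
    rw [hd, ht] at hQ
    push_cast at hQ
    ring_nf at hQ
    omega
  have k1 : ∀ r, r.Prime → r ∣ k → r % 3 = 1 := fun r a b => mod_three a (fun z => k3 (z ▸ b)) (kd b)
  have kA : ∀ r, r.Prime → r ∣ k → ¬ r ∣ p ^ 2 * (q ^ 2 - 1) := fun r a b z => by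
    have a' := Nat.prime_iff_prime_int.1 a
    have b' := kd b
    have n1 : ¬ (r : ℤ) ∣ 1 := a'.not_dvd_one
    rcases a.dvd_mul.1 z with z | z
    · have : (r : ℤ) ∣ Q := a'.dvd_of_dvd_pow (n := 2) (hQ2.1 ▸
        (Int.natCast_dvd_natCast.2 ((a.dvd_of_dvd_pow z).trans pq)).pow two_ne_zero)
      exact n1 ((Int.dvd_add_right ((this.pow two_ne_zero).add this)).1 b')
    · zify [show 1 ≤ q ^ 2 from Nat.one_le_pow _ _ (by omega)] at z
      rw [← hQ2.1, show Q ^ 2 - 1 = (Q + 1) * (Q - 1) by ring] at z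
      rcases a'.dvd_mul.1 z with z | z
      · exact n1 ((Int.dvd_add_right (z.mul_left Q)).1 (by convert b' using 1; ring))
      · have : (r : ℤ) ∣ 3 := (Int.dvd_add_right (z.mul_left (Q + 2))).1 (by convert b' using 1; ring)
        have := (Nat.prime_dvd_prime_iff_eq a Nat.prime_three).1 (by exact_mod_cast this)
        exact k3 (this ▸ b)
  have k2 : ¬ 2 ∣ k := fun a => by simpa using k1 2 Nat.prime_two a
  exact ⟨hA, k1, fun r a b => ⟨fun z => k2 (z ▸ b), fun z => (hA _ z).elim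
    (fun y => kA r a b ((dvd_mul_left _ _).trans y)) fun y => k2 ((dvd_mul_right _ _).trans y)⟩⟩

theorem GW.three (h : GW ω N) {p f q c d k : ℕ} (hp : p.Prime) (hq : q = p ^ (f + 1)) (hd : d = Nat.gcd 3 c)
    (e : c + 1 = q ∧ d * k = q ^ 2 + q + 1 ∨ c = q + 1 ∧ d * k + q = q ^ 2 + 1) (hk : k ∈ ω)
    (hω : ∀ m ∈ ω, m ∣ c ∨ m ∣ p ^ 2 * c / d ∨ m ∣ (q ^ 2 - 1) / d ∨ m ∣ k) : False := by
  have q2 : 2 ≤ q := hq ▸ hp.two_le.trans (Nat.le_self_pow (by omega) p)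
  have pq : p ∣ q := hq ▸ dvd_pow_self p (by omega)
  have d3 : d = 1 ∨ d = 3 := (Nat.dvd_prime Nat.prime_three).1 (hd ▸ Nat.gcd_dvd_left 3 c)
  obtain ⟨hA, k1, kI⟩ := three_aux hp hq hd e hω
  have R := num3w h.mem h.nt (h.iso k hk kI) d3 q2 (e.imp And.right And.right) k1 fun s a b => by
    rcases hA s (h.pi s a b) with y | y
    · rcases a.dvd_mul.1 y with y | y
      exacts [(((a.dvd_of_dvd_pow y).trans pq).mul_right _).mul_right _, ((sq q ▸ y).mul_left _).mul_right _]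
    · exact y.mul_left _
  have pp : ∀ s, s.Prime → s ∣ q → p = s := fun s a b =>
    ((Nat.prime_dvd_prime_iff_eq a hp).1 (a.dvd_of_dvd_pow (hq ▸ b))).symm
  have a133 : q = 11 → k = 133 → ∀ m ∈ ω, 7 ∣ m ∨ 19 ∣ m → m ∣ 133 := fun a b m hm z => by
    rw [pp 11 (by norm_num) (by rw [a]), a, b] at hA
    rcases hA m hm with y | y
    · rcases z with z | z <;> exact absurd (z.trans y) (by norm_num)
    · exact y
  simp only [R3, List.mem_cons, Prod.mk.injEq, List.not_mem_nil, or_false] at R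
  rcases R with R | R | R | R | R | R
  · exact h.kJ R.2.2 (R.2.1 ▸ hk) fun m a b => (a133 R.1 R.2.1 m a b).trans (by norm_num)
  · exact h.kH R.2.2 (R.2.1 ▸ hk) (a133 R.1 R.2.1)
  · have := hω _ (h.j2 R.2.2)
    rw [pp 2 (by norm_num) (by rw [R.1]; norm_num), R.1, R.2.1] at this
    rw [R.1, R.2.1] at e
    obtain ⟨rfl, rfl⟩ : c = 3 ∧ d = 3 := by omega
    norm_num at this
  · have := hω _ (h.j2 R.2.2)
    rw [pp 5 (by norm_num) (by rw [R.1]), R.1, R.2.1] at this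
    rw [R.1, R.2.1] at e
    obtain ⟨rfl, rfl⟩ : c = 6 ∧ d = 3 := by omega
    norm_num at this
  all_goals exact absurd ((pp 2 (by norm_num) (by rw [R.1]; norm_num)).symm.trans
    (pp 5 (by norm_num) (by rw [R.1]; norm_num))) (by norm_num)

theorem two_aux {p f u v : ℕ} (hp : p.Prime)
    (eu : u = (p ^ (f + 1) - 1) / Nat.gcd 2 (p ^ (f + 1) - 1)) (ev : v = (p ^ (f + 1) + 1) / Nat.gcd 2 (p ^ (f + 1) - 1))
    (hω : ω = {m | m ∣ p ∨ m ∣ u ∨ m ∣ v}) : (p ≠ 2 → ∀ r, r.Prime → r ∣ p → r ≠ 2 ∧ 2 * r ∉ ω) ∧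
      (u % 2 = 1 → ∀ r, r.Prime → r ∣ u → r ≠ 2 ∧ 2 * r ∉ ω) ∧ (v % 2 = 1 → ∀ r, r.Prime → r ∣ v → r ≠ 2 ∧ 2 * r ∉ ω) := by
  have pq : p ∣ p ^ (f + 1) := dvd_pow_self p (by omega)
  have q1 : 1 ≤ p ^ (f + 1) := Nat.one_le_pow _ _ hp.pos
  have g1 := Nat.gcd_dvd_right 2 (p ^ (f + 1) - 1)
  have g2 : Nat.gcd 2 (p ^ (f + 1) - 1) ∣ p ^ (f + 1) + 1 := by
    rw [show p ^ (f + 1) + 1 = p ^ (f + 1) - 1 + 2 by omega]
    exact g1.add (Nat.gcd_dvd_left _ _)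
  have du : u ∣ p ^ (f + 1) - 1 := eu ▸ Nat.div_dvd_of_dvd g1
  have dv : v ∣ p ^ (f + 1) + 1 := ev ▸ Nat.div_dvd_of_dvd g2
  have pu : ∀ r, r.Prime → r ∣ p → ¬ r ∣ u := fun r a b c =>
    a.not_dvd_one ((Nat.dvd_sub_iff_right q1 (b.trans pq)).1 (c.trans du))
  have pv : ∀ r, r.Prime → r ∣ p → ¬ r ∣ v := fun r a b c => a.not_dvd_one ((Nat.dvd_add_right (b.trans pq)).1 (c.trans dv))
  have uv : ∀ r, r.Prime → r ≠ 2 → r ∣ u → ¬ r ∣ v := fun r a n b c => n ((Nat.prime_dvd_prime_iff_eq a Nat.prime_two).1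
    ((Nat.dvd_add_right (b.trans du)).1 (by rw [show p ^ (f + 1) - 1 + 2 = p ^ (f + 1) + 1 by omega]; exact c.trans dv)))
  have l2 : ∀ {r x : ℕ}, 2 * r ∣ x → 2 ∣ x ∧ r ∣ x := fun a => ⟨(dvd_mul_right _ _).trans a, (dvd_mul_left _ _).trans a⟩
  have n2 : ∀ {r : ℕ}, r.Prime → ¬ 2 * r ∣ p := fun a b => by
    have := (Nat.prime_dvd_prime_iff_eq Nat.prime_two hp).1 (l2 b).1
    have := Nat.le_of_dvd hp.pos b
    have := a.two_le
    omega
  refine ⟨fun e r a b => ⟨fun z => e ((Nat.prime_dvd_prime_iff_eq a hp).1 b ▸ z), fun z => ?_⟩,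
    fun o r a b => ?_, fun o r a b => ?_⟩
  · rcases hω.le z with z | z | z
    exacts [n2 a z, pu r a b (l2 z).2, pv r a b (l2 z).2]
  all_goals
    have n : r ≠ 2 := by rintro rfl; omega
    refine ⟨n, fun z => ?_⟩
    rcases hω.le z with z | z | z
  exacts [n2 a z, by have := (l2 z).1; omega, uv r a n b (l2 z).2, n2 a z, uv r a n (l2 z).2 b, by have := (l2 z).1; omega]

theorem GW.two (h : GW ω N) {p f u v : ℕ} (hp : p.Prime)
    (eu : u = (p ^ (f + 1) - 1) / Nat.gcd 2 (p ^ (f + 1) - 1)) (ev : v = (p ^ (f + 1) + 1) / Nat.gcd 2 (p ^ (f + 1) - 1))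
    (hω : ω = {m | m ∣ p ∨ m ∣ u ∨ m ∣ v}) : False := by
  have pq : p ∣ p ^ (f + 1) := dvd_pow_self p (by omega)
  obtain ⟨ip, iu, iv⟩ := two_aux hp eu ev hω
  have hpN : p ∣ N := by
    by_cases e : p = 2
    · exact e ▸ (by norm_num : 2 ∣ 8).trans (eight_dvd h.mem)
    exact (h.iso p (hω ▸ .inl dvd_rfl) (ip e)).2 p hp dvd_rfl
  have hu := fun o => h.iso u (hω ▸ .inr (.inl dvd_rfl)) (iu o)
  have hv := fun o => h.iso v (hω ▸ .inr (.inr dvd_rfl)) (iv o)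
  have R := num2w h.mem h.nt hp hpN eu ev hu hv fun s a b => by
    rcases hω.le (h.pi s a b) with z | z | z
    exacts [(z.mul_right _).mul_right _, (z.mul_left _).mul_right _, z.mul_left _]
  have pp : ∀ s k, s.Prime → p ^ (f + 1) = s ^ k → p = s := fun s k a b =>
    (Nat.prime_dvd_prime_iff_eq hp a).1 (hp.dvd_of_dvd_pow (b ▸ pq))
  simp only [R2, List.mem_cons, Prod.mk.injEq, List.not_mem_nil, or_false] at R
  rcases R with R | R | R | R | R | R <;> rw [R.1] at eu ev <;> norm_num at eu ev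
  · simpa [hω, eu, ev, pp 11 1 (by norm_num) R.1] using h.four (.inl R.2)
  · simpa [hω, eu, ev, pp 11 1 (by norm_num) R.1] using h.four (.inr (.inl R.2))
  · refine h.kJ R.2 (by simp [hω, eu]) fun m hm z => ?_
    rw [hω, eu, ev, pp 11 3 (by norm_num) R.1] at hm
    rcases hm with y | y | y
    · rcases z with z | z <;> exact absurd (z.trans y) (by norm_num)
    · exact y
    · rcases z with z | z <;> exact absurd (z.trans y) (by norm_num)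
  · simpa [hω, eu, ev, pp 11 3 (by norm_num) R.1] using h.four (.inr (.inr R.2))
  · simpa [hω, eu, ev, pp 5 3 (by norm_num) R.1] using h.j2 R.2
  · simpa [hω, eu, ev, pp 7 2 (by norm_num) R.1] using h.j2 R.2

variable {F : Type*} [Field F] [Fintype F]

theorem exists_q (F : Type*) [Field F] [Fintype F] : ∃ p f : ℕ, ∃ _ : Fact p.Prime, CharP F p ∧ Fintype.card F = p ^ (f + 1) := by
  obtain ⟨p, _, n, hp, e⟩ := FiniteField.card' F
  exact ⟨p, n - 1, ⟨hp⟩, ‹_›, by rw [e, Nat.sub_add_cancel n.pos]⟩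

theorem l3_data (F : Type*) [Field F] [Fintype F] : ∃ p f q c d k : ℕ, p.Prime ∧ q = p ^ (f + 1) ∧ d = Nat.gcd 3 c ∧
    (c + 1 = q ∧ d * k = q ^ 2 + q + 1) ∧ k ∈ sp PSL(3, F) ∧
    ∀ m ∈ sp PSL(3, F), m ∣ c ∨ m ∣ p ^ 2 * c / d ∨ m ∣ (q ^ 2 - 1) / d ∨ m ∣ k := by
  obtain ⟨p, f, hp, _, e⟩ := exists_q F
  have S := Agent.S2476.result (F := F) p
  have q1 : 1 ≤ Fintype.card F := Fintype.card_pos
  generalize Fintype.card F = q at *
  have dc := Nat.gcd_dvd_right 3 (q - 1)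
  refine ⟨p, f, q, _, _, _, hp.out, e, rfl, ⟨Nat.sub_add_cancel q1, Nat.mul_div_cancel' ?_⟩, S.ge (.inl dvd_rfl),
    fun m hm => ?_⟩
  · obtain ⟨c, rfl⟩ := Nat.exists_eq_add_of_le' q1
    rw [show (c + 1) ^ 2 + (c + 1) + 1 = 3 + c * (c + 3) by ring]
    exact (Nat.gcd_dvd_left _ _).add (dc.mul_right _)
  · rw [Nat.mul_div_assoc _ dc] at S ⊢
    rcases S.le hm with a | a | a | a | ⟨rfl, a⟩
    exacts [.inr (.inr (.inr a)), .inr (.inr (.inl a)), .inl a,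
      .inr (.inl (a.trans (mul_dvd_mul_right (dvd_pow_self p two_ne_zero) _))), .inr (.inl (a.mul_right _))]

theorem u3_data {q : ℕ} (hF : Fintype.card F = q ^ 2) : ∃ p f c d k : ℕ, p.Prime ∧ q = p ^ (f + 1) ∧ d = Nat.gcd 3 c ∧
    (c = q + 1 ∧ d * k + q = q ^ 2 + 1) ∧ k ∈ sp (PSU 3 F q) ∧
    ∀ m ∈ sp (PSU 3 F q), m ∣ c ∨ m ∣ p ^ 2 * c / d ∨ m ∣ (q ^ 2 - 1) / d ∨ m ∣ k := by
  obtain ⟨p, f, hp, _, e⟩ := exists_q F
  have S := u3_spec (F := F) p q hF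
  obtain ⟨i, -, hi⟩ := (Nat.dvd_prime_pow hp.out).1 (e ▸ hF ▸ dvd_pow_self q two_ne_zero : q ∣ p ^ (f + 1))
  obtain _ | i := i
  · have := Fintype.one_lt_card (α := F)
    simp [hF, hi] at this
  have q1 : q ≤ q ^ 2 := Nat.le_self_pow two_ne_zero q
  refine ⟨p, i, _, _, _, hp.out, hi, rfl, ⟨rfl, ?_⟩, S.2, by rintro _ ⟨g, rfl⟩; exact S.1 g⟩
  rw [Nat.mul_div_cancel']
  · omega
  · refine (Nat.dvd_add_left ((Nat.gcd_dvd_left 3 (q + 1)).mul_right q)).1 ?_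
    rw [show q ^ 2 - q + 1 + 3 * q = (q + 1) * (q + 1) by zify [q1]; ring]
    exact (Nat.gcd_dvd_right _ _).mul_right _

theorem l3_false (h : GW (sp PSL(3, F)) N) : False := by
  obtain ⟨p, f, q, c, d, k, hp, hq, hd, e, hk, hω⟩ := l3_data F
  exact h.three hp hq hd (.inl e) hk hω

theorem u3_false {q : ℕ} (hF : Fintype.card F = q ^ 2) (h : GW (sp (PSU 3 F q)) N) : False := by
  obtain ⟨p, f, c, d, k, hp, hq, hd, e, hk, hω⟩ := u3_data hF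
  exact h.three hp hq hd (.inr e) hk hω

theorem l2_false (h : GW (sp PSL(2, F)) N) : False := by
  obtain ⟨p, f, hp, _, e⟩ := exists_q F
  exact h.two hp.out rfl rfl (by rw [← e, ← Nat.card_eq_fintype_card]; exact sp_psl2 p)

theorem l2_iso' : ∃ r ∈ sp PSL(2, F), r.Prime ∧ r ≠ 2 ∧ 2 * r ∉ sp PSL(2, F) := by
  obtain ⟨p, f, hp, _, e⟩ := exists_q F
  have S := sp_psl2 (F := F) p
  rw [Nat.card_eq_fintype_card, e] at S
  obtain ⟨ip, -, iv⟩ := two_aux hp.out rfl rfl S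
  by_cases n : p = 2
  · subst n
    have d : 2 ∣ 2 ^ (f + 1) := dvd_pow_self 2 (by omega)
    have := Nat.one_le_two_pow (n := f + 1)
    rw [Nat.prime_two.coprime_iff_not_dvd.2 (by omega), Nat.div_one] at S iv
    obtain ⟨r, a, b⟩ := Nat.exists_prime_and_dvd (n := 2 ^ (f + 1) + 1) (by omega)
    exact ⟨r, S.ge (.inr (.inr (by simpa))), a, iv (by omega) r a b⟩
  · exact ⟨p, S.ge (.inl dvd_rfl), hp.out, ip n p hp.out dvd_rfl⟩

theorem l3_iso' : ∃ r ∈ sp PSL(3, F), r.Prime ∧ r ≠ 2 ∧ 2 * r ∉ sp PSL(3, F) := by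
  obtain ⟨p, f, q, c, d, k, hp, hq, hd, e, hk, hω⟩ := l3_data F
  have q2 : 2 ≤ q := hq ▸ hp.two_le.trans (Nat.le_self_pow (by omega) p)
  have := hd ▸ Nat.gcd_le_left c three_pos
  obtain ⟨r, a, b⟩ := Nat.exists_prime_and_dvd (n := k) (by rintro rfl; nlinarith [e.2])
  exact ⟨r, mem_sp_of_dvd hk b, a, (three_aux hp hq hd (.inl e) hω).2.2 r a b⟩

theorem u3_iso' {q : ℕ} (hF : Fintype.card F = q ^ 2) :
    ∃ r ∈ sp (PSU 3 F q), r.Prime ∧ r ≠ 2 ∧ 2 * r ∉ sp (PSU 3 F q) := by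
  obtain ⟨p, f, c, d, k, hp, hq, hd, e, hk, hω⟩ := u3_data hF
  have q2 : 2 ≤ q := hq ▸ hp.two_le.trans (Nat.le_self_pow (by omega) p)
  have := hd ▸ Nat.gcd_le_left c three_pos
  by_cases n : k = 1
  · obtain rfl : q = 2 := by have := e.2; rw [n] at this; nlinarith
    have c := Unitary.card_PSU hF (n := 3) (by norm_num)
    rw [show Unitary.guOrder 2 3 = 648 by decide] at c
    norm_num at c
    refine ⟨3, (prime_mem_sp_iff Nat.prime_three).2 (by omega), Nat.prime_three, by norm_num, fun z => ?_⟩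
    have := hω _ z
    obtain rfl := (Nat.prime_dvd_prime_iff_eq hp Nat.prime_two).1 (hq ▸ dvd_pow_self p (by omega))
    rw [hd, e.1, n] at this
    norm_num at this
  obtain ⟨r, a, b⟩ := Nat.exists_prime_and_dvd n
  exact ⟨r, mem_sp_of_dvd hk b, a, (three_aux hp hq hd (.inr e) hω).2.2 r a b⟩

end Cfsg.Lib.SP3
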